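import Groth.Agent.GraphLib.Index
import Mathlib.LinearAlgebra.Matrix.Rank
import Mathlib.LinearAlgebra.Dimension.Torsion.Finite

/-!
# Indices of diagonal images in sum-zero lattices
-/

set_option autoImplicit false
set_option linter.all false

open Finset

namespace Groth.Agent.CompLat16

variable {n : ℕ}

/-- Sum of the coordinates. -/
noncomputable abbrev S (n : ℕ) : (Fin n → ℤ) →ₗ[ℤ] ℤ := ∑ i : Fin n, LinearMap.proj i

theorem S_apply (v : Fin n → ℤ) : S n v = ∑ i, v i := by simp [S]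

theorem card_quot_comap (I K : Submodule ℤ (Fin n → ℤ)) :
    Nat.card (K ⧸ I.comap K.subtype) = I.toAddSubgroup.relIndex K.toAddSubgroup := rfl

theorem surjective_S (hn : 0 < n) : Function.Surjective (S n) := fun k =>
  ⟨Pi.single ⟨0, hn⟩ k, by simp [S_apply]⟩

theorem index_diag (δ : Fin n → ℤ) (hδ : ∀ i, δ i ≠ 0) :
    (LinearMap.range (Matrix.diagonal δ).mulVecLin).toAddSubgroup.index = (∏ i, δ i).natAbs := by
  rw [GraphLib.index_range_mulVec (by rw [Matrix.det_diagonal]; exact prod_ne_zero_iff.2 fun i _ => hδ i),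
    Matrix.det_diagonal]

/-- `S` maps the diagonal image onto the multiples of the gcd. -/
theorem ker_sup_range (hn : 0 < n) (δ : Fin n → ℤ) :
    (LinearMap.ker (S n)).toAddSubgroup ⊔ (LinearMap.range (Matrix.diagonal δ).mulVecLin).toAddSubgroup =
      (AddSubgroup.zmultiples (univ.gcd δ)).comap (S n).toAddMonoidHom := by
  apply le_antisymm
  · refine sup_le (fun v hv => ?_) ?_
    · change S n v ∈ AddSubgroup.zmultiples (univ.gcd δ)
      rw [show S n v = 0 from hv]
      exact zero_mem _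
    · rintro _ ⟨x, rfl⟩
      change S n ((Matrix.diagonal δ).mulVec x) ∈ AddSubgroup.zmultiples (univ.gcd δ)
      rw [S_apply]
      refine sum_mem fun i _ => ?_
      rw [Matrix.mulVec_diagonal]
      obtain ⟨c, hc⟩ := gcd_dvd (mem_univ i) (f := δ)
      refine ⟨c * x i, ?_⟩
      simp only [zsmul_eq_mul, Int.cast_id]
      rw [hc]; ring
  · intro v hv
    obtain ⟨k, hk⟩ := hv
    obtain ⟨u, hu⟩ := GraphLib.exists_gcd_eq_sum univ δ
    have hk' : k * univ.gcd δ = S n v := by simpa using hk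
    refine AddSubgroup.mem_sup.2 ⟨v - (Matrix.diagonal δ).mulVec (k • u), ?_, _, ⟨k • u, rfl⟩, by simp⟩
    change S n _ = 0
    rw [map_sub, ← hk', hu, S_apply, mul_sum, sub_eq_zero]
    refine sum_congr rfl fun i _ => ?_
    rw [Matrix.mulVec_diagonal, Pi.smul_apply, smul_eq_mul]
    ring

theorem relIndex_ker_mul_gcd (hn : 0 < n) (δ : Fin n → ℤ) (hδ : ∀ i, δ i ≠ 0) :
    ((LinearMap.range (Matrix.diagonal δ).mulVecLin).toAddSubgroup.relIndex (LinearMap.ker (S n)).toAddSubgroup : ℤ) *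
      univ.gcd δ = |∏ i, δ i| := by
  set P := (LinearMap.range (Matrix.diagonal δ).mulVecLin).toAddSubgroup
  set K := (LinearMap.ker (S n)).toAddSubgroup
  have h1 : (K ⊔ P).index = (univ.gcd δ).natAbs := by
    rw [ker_sup_range hn δ, AddSubgroup.index_comap_of_surjective _ (surjective_S hn), Int.index_zmultiples]
  have h2 : P.relIndex K * (univ.gcd δ).natAbs = (∏ i, δ i).natAbs := by
    rw [← index_diag δ hδ, ← h1, ← AddSubgroup.relIndex_sup_right (H := K) (K := P)]
    exact AddSubgroup.relIndex_mul_index le_sup_right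
  have h0 : 0 ≤ univ.gcd δ := by
    exact Int.nonneg_of_normalize_eq_self Finset.normalize_gcd
  rw [Int.abs_eq_natAbs, ← h2]
  push_cast
  rw [abs_of_nonneg h0]

theorem main (hn : 0 < n) (δ : Fin n → ℤ) (hδ : ∀ i, δ i ≠ 0) (A : Matrix (Fin n) (Fin n) ℤ)
    (h : S n ∘ₗ (Matrix.diagonal δ).mulVecLin ∘ₗ A.mulVecLin = 0) :
    ((LinearMap.range A.mulVecLin).toAddSubgroup.relIndex
        (LinearMap.ker (S n ∘ₗ (Matrix.diagonal δ).mulVecLin)).toAddSubgroup : ℤ) * |∏ i, δ i| =
      univ.gcd δ * (LinearMap.range ((Matrix.diagonal δ).mulVecLin ∘ₗ A.mulVecLin)).toAddSubgroup.relIndex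
        (LinearMap.ker (S n)).toAddSubgroup := by
  set D := (Matrix.diagonal δ).mulVecLin
  have hinj : Function.Injective D := fun x y hxy => funext fun i => by
    have := congrFun hxy i
    simp only [D, Matrix.mulVecLin_apply, Matrix.mulVec_diagonal] at this
    exact mul_left_cancel₀ (hδ i) this
  set K := (LinearMap.ker (S n)).toAddSubgroup
  set P := (LinearMap.range D).toAddSubgroup
  have e1 : AddSubgroup.map D.toAddMonoidHom (LinearMap.range A.mulVecLin).toAddSubgroup =
      (LinearMap.range (D ∘ₗ A.mulVecLin)).toAddSubgroup := by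
    ext v
    constructor
    · rintro ⟨_, ⟨x, rfl⟩, rfl⟩; exact ⟨x, rfl⟩
    · rintro ⟨x, rfl⟩; exact ⟨_, ⟨x, rfl⟩, rfl⟩
  have e2 : AddSubgroup.map D.toAddMonoidHom (LinearMap.ker (S n ∘ₗ D)).toAddSubgroup = K ⊓ P := by
    ext v
    constructor
    · rintro ⟨x, hx, rfl⟩; exact ⟨hx, ⟨x, rfl⟩⟩
    · rintro ⟨hv, x, rfl⟩; exact ⟨x, hv, rfl⟩
  have hle : (LinearMap.range (D ∘ₗ A.mulVecLin)).toAddSubgroup ≤ K ⊓ P := by
    rintro _ ⟨x, rfl⟩
    exact ⟨LinearMap.congr_fun h x, ⟨_, rfl⟩⟩
  have hP : (K ⊓ P).relIndex K = P.relIndex K := AddSubgroup.inf_relIndex_left K P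
  have key := relIndex_ker_mul_gcd hn δ hδ
  rw [← AddSubgroup.relIndex_map_map_of_injective _ _ (f := D.toAddMonoidHom) hinj, e1, e2,
    ← key]
  have hm := AddSubgroup.relIndex_mul_relIndex (H := (LinearMap.range (D ∘ₗ A.mulVecLin)).toAddSubgroup)
    (K := K ⊓ P) (L := K) hle inf_le_left
  rw [hP] at hm
  rw [← hm]
  push_cast
  ring

theorem finrank_ker_eq_one (hn : 0 < n) (A : Matrix (Fin n) (Fin n) ℤ) (hA : A.rank = n - 1) :
    Module.finrank ℤ (LinearMap.ker A.mulVecLin) = 1 := by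
  have h := Submodule.finrank_quotient_add_finrank (LinearMap.ker A.mulVecLin)
  rw [LinearEquiv.finrank_eq A.mulVecLin.quotKerEquivRange, Module.finrank_fin_fun] at h
  rw [Matrix.rank] at hA
  omega

theorem twist (hn : 0 < n) (δ δ' : Fin n → ℤ) (hδ : ∀ i, δ i ≠ 0) (hδ' : ∀ i, δ' i ≠ 0)
    (A : Matrix (Fin n) (Fin n) ℤ) (hA : A.rank = n - 1) (hAδ' : A.mulVec δ' = 0)
    (K : AddSubgroup (Fin n → ℤ))
    (hK : (LinearMap.range ((Matrix.diagonal δ).mulVecLin ∘ₗ A.mulVecLin)).toAddSubgroup ≤ K) :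
    (univ.gcd δ') * (LinearMap.range ((Matrix.diagonal δ).mulVecLin ∘ₗ A.mulVecLin ∘ₗ
        (Matrix.diagonal δ').mulVecLin)).toAddSubgroup.relIndex K =
      |∏ i, δ' i| * (LinearMap.range ((Matrix.diagonal δ).mulVecLin ∘ₗ A.mulVecLin)).toAddSubgroup.relIndex K := by
  set D := (Matrix.diagonal δ).mulVecLin
  set D' := (Matrix.diagonal δ').mulVecLin
  set g := (D ∘ₗ A.mulVecLin).toAddMonoidHom
  set P := (LinearMap.range D').toAddSubgroup
  have hne : univ.gcd δ' ≠ 0 := by
    rw [Ne, Finset.gcd_eq_zero_iff]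
    exact fun h => hδ' ⟨0, hn⟩ (h _ (mem_univ _))
  obtain ⟨v, hv, hv1⟩ := extract_gcd δ' (s := univ) ⟨⟨0, hn⟩, mem_univ _⟩
  obtain ⟨u, hu⟩ := GraphLib.exists_gcd_eq_sum univ v
  rw [hv1] at hu
  have hvA : A.mulVec v = 0 := by
    have : (univ.gcd δ') • A.mulVec v = 0 := by
      rw [← Matrix.mulVec_smul, show (univ.gcd δ') • v = δ' from funext fun i => (hv i (mem_univ i)).symm, hAδ']
    exact (smul_eq_zero.1 this).resolve_left hne
  have hker : g.ker = AddSubgroup.zmultiples v := by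
    apply le_antisymm
    · intro w hw
      have hw' : A.mulVec w = 0 := by
        have : D (A.mulVec w) = 0 := hw
        funext i
        have := congrFun this i
        simp only [D, Matrix.mulVecLin_apply, Matrix.mulVec_diagonal, Pi.zero_apply] at this
        exact (mul_eq_zero.1 this).resolve_left (hδ i)
      let b := Module.basisUnique Unit (finrank_ker_eq_one hn A hA)
      set e : LinearMap.ker A.mulVecLin := b default
      have hspan : ∀ x : LinearMap.ker A.mulVecLin, x = (b.repr x default) • e := fun x => by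
        conv_lhs => rw [← b.sum_repr x]
        simp [e]
      obtain ⟨p, hp⟩ : ∃ p : ℤ, v = p • (e : Fin n → ℤ) := ⟨_, congrArg Subtype.val (hspan ⟨v, hvA⟩)⟩
      obtain ⟨q, hq⟩ : ∃ q : ℤ, w = q • (e : Fin n → ℤ) := ⟨_, congrArg Subtype.val (hspan ⟨w, hw'⟩)⟩
      have hp1 : p * ∑ i, u i * (e : Fin n → ℤ) i = 1 := by
        rw [hu, mul_sum]
        refine sum_congr rfl fun i _ => ?_
        rw [hp, Pi.smul_apply, smul_eq_mul]
        ring
      refine ⟨q * ∑ i, u i * (e : Fin n → ℤ) i, ?_⟩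
      change _ • v = w
      rw [hp, hq, smul_smul, mul_assoc, mul_comm (∑ i, _) p, hp1, mul_one]
    · rw [AddSubgroup.zmultiples_le]
      change D (A.mulVec v) = 0
      rw [hvA, map_zero]
  have horder : P.relIndex (AddSubgroup.zmultiples v) = (univ.gcd δ').natAbs := by
    let m : ℤ →+ (Fin n → ℤ) := (zmultiplesHom (Fin n → ℤ)) v
    have hr : AddSubgroup.zmultiples v = m.range := rfl
    have hc : P.comap m = AddSubgroup.zmultiples (univ.gcd δ') := by
      ext k
      rw [AddSubgroup.mem_comap, Int.mem_zmultiples_iff]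
      constructor
      · rintro ⟨x, hx⟩
        refine ⟨∑ i, u i * (v i * x i), ?_⟩
        have : ∀ i, k * v i = univ.gcd δ' * (v i * x i) := fun i => by
          have := congrFun hx i
          simp only [D', Matrix.mulVecLin_apply, Matrix.mulVec_diagonal, m, zmultiplesHom_apply,
            Pi.smul_apply, smul_eq_mul] at this
          rw [← this, hv i (mem_univ i)]; ring
        calc k = k * ∑ i, u i * v i := by rw [← hu, mul_one]
          _ = _ := by
            rw [mul_sum, mul_sum]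
            refine sum_congr rfl fun i _ => ?_
            linear_combination u i * this i
      · rintro ⟨c, rfl⟩
        refine ⟨fun _ => c, funext fun i => ?_⟩
        simp only [D', Matrix.mulVecLin_apply, Matrix.mulVec_diagonal, m, zmultiplesHom_apply, Pi.smul_apply,
          smul_eq_mul]
        rw [hv i (mem_univ i)]; ring
    rw [hr, ← AddSubgroup.index_comap, hc, Int.index_zmultiples]
  have e1 : (LinearMap.range (D ∘ₗ A.mulVecLin)).toAddSubgroup = g.range := rfl
  have e2 : (LinearMap.range (D ∘ₗ A.mulVecLin ∘ₗ D')).toAddSubgroup = P.map g := by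
    ext x
    constructor
    · rintro ⟨y, rfl⟩; exact ⟨_, ⟨y, rfl⟩, rfl⟩
    · rintro ⟨_, ⟨y, rfl⟩, rfl⟩; exact ⟨y, rfl⟩
  have e3 : (P.map g).relIndex g.range = (P ⊔ g.ker).index := by
    rw [← AddSubgroup.index_comap, AddSubgroup.comap_map_eq]
  have e4 : (univ.gcd δ').natAbs * (P ⊔ g.ker).index = (∏ i, δ' i).natAbs := by
    rw [← horder, ← hker, ← AddSubgroup.relIndex_sup_right (H := g.ker) (K := P), sup_comm g.ker P,
      AddSubgroup.relIndex_mul_index le_sup_left, index_diag δ' hδ']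
  have h0 : 0 ≤ univ.gcd δ' := by
    exact Int.nonneg_of_normalize_eq_self Finset.normalize_gcd
  rw [e2, e1] at *
  have hle : P.map g ≤ g.range := by
    rintro _ ⟨y, -, rfl⟩
    exact ⟨y, rfl⟩
  have hm := AddSubgroup.relIndex_mul_relIndex (H := P.map g) (K := g.range) (L := K) hle hK
  rw [← hm, e3,
    Int.abs_eq_natAbs, ← e4]
  push_cast
  rw [abs_of_nonneg h0]
  ring

end Groth.Agent.CompLat16
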